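import Mathlib

/-!
# Formal compatibilities of base change maps for adjoints (helper5)
-/
set_option autoImplicit false
open CategoryTheory

namespace Groth.Agent.Lib.Helper5.AbsBC

variable {𝒳 𝒴 𝒳' 𝒴' : Type*} [Category 𝒳] [Category 𝒴] [Category 𝒳'] [Category 𝒴']
  {F : 𝒳 ⥤ 𝒴} {F' : 𝒳' ⥤ 𝒴'} {G : 𝒴' ⥤ 𝒴} {G' : 𝒳' ⥤ 𝒳} {L : 𝒴 ⥤ 𝒴'} {L' : 𝒳 ⥤ 𝒳'}
  {a : 𝒴 ⥤ 𝒳} {a' : 𝒴' ⥤ 𝒳'}
  (adj : F ⊣ a) (adj' : F' ⊣ a') (adjg : L ⊣ G) (adjg' : L' ⊣ G') (e : G' ⋙ F ≅ F' ⋙ G)

/-- `ξ : G' a' ⟶ a G` -/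
def xi (M : 𝒴') : G'.obj (a'.obj M) ⟶ a.obj (G.obj M) :=
  (adj.homEquiv _ _) (e.hom.app (a'.obj M) ≫ G.map (adj'.counit.app M))

/-- the base change map `L' a ⟶ a' L` -/
noncomputable def bcMap (K : 𝒴) (hξ : IsIso (xi adj adj' e (L.obj K))) :
    L'.obj (a.obj K) ⟶ a'.obj (L.obj K) :=
  haveI := hξ
  L'.map (a.map (adjg.unit.app K)) ≫ L'.map (inv (xi adj adj' e (L.obj K))) ≫
    adjg'.counit.app (a'.obj (L.obj K))

/-- the base change map `L F ⟶ F' L'` -/
def bcPush (K : 𝒳) : L.obj (F.obj K) ⟶ F'.obj (L'.obj K) :=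
  (adjg.homEquiv _ _).symm (F.map (adjg'.unit.app K) ≫ e.hom.app (L'.obj K))

lemma homEquiv_bcMap (K : 𝒴) (hξ : IsIso (xi adj adj' e (L.obj K))) :
    adjg'.homEquiv _ _ (bcMap adj adj' adjg adjg' e K hξ) =
      a.map (adjg.unit.app K) ≫ @inv _ _ _ _ (xi adj adj' e (L.obj K)) hξ := by
  haveI := hξ
  have h : bcMap adj adj' adjg adjg' e K hξ = (adjg'.homEquiv (a.obj K) (a'.obj (L.obj K))).symm
      (a.map (adjg.unit.app K) ≫ inv (xi adj adj' e (L.obj K))) := by
    rw [Adjunction.homEquiv_counit, Functor.map_comp, Category.assoc]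
    rfl
  rw [h, Equiv.apply_symm_apply]

lemma map_xi_counit (M : 𝒴') :
    F.map (xi adj adj' e M) ≫ adj.counit.app (G.obj M) =
      e.hom.app (a'.obj M) ≫ G.map (adj'.counit.app M) := by
  simp [xi, Adjunction.homEquiv_unit]

/-- **compatibility of the trace with base change** -/
theorem trace_compat (K : 𝒴) (hξ : IsIso (xi adj adj' e (L.obj K))) :
    bcPush adjg adjg' e (a.obj K) ≫ F'.map (bcMap adj adj' adjg adjg' e K hξ) ≫
      adj'.counit.app (L.obj K) = L.map (adj.counit.app K) := by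
  haveI := hξ
  apply (adjg.homEquiv _ _).injective
  rw [Adjunction.homEquiv_naturality_right]
  have h1 : adjg.homEquiv _ _ (bcPush adjg adjg' e (a.obj K)) =
      F.map (adjg'.unit.app (a.obj K)) ≫ e.hom.app (L'.obj (a.obj K)) := by
    simp [bcPush]
  rw [h1, Functor.map_comp]
  have hnat := e.hom.naturality (bcMap adj adj' adjg adjg' e K hξ)
  simp only [Functor.comp_map] at hnat
  have h2 := homEquiv_bcMap adj adj' adjg adjg' e K hξ
  rw [Adjunction.homEquiv_unit] at h2
  have h3 := map_xi_counit adj adj' e (L.obj K)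
  calc (F.map (adjg'.unit.app (a.obj K)) ≫ e.hom.app (L'.obj (a.obj K))) ≫
        G.map (F'.map (bcMap adj adj' adjg adjg' e K hξ)) ≫ G.map (adj'.counit.app (L.obj K))
      = F.map (adjg'.unit.app (a.obj K) ≫ G'.map (bcMap adj adj' adjg adjg' e K hξ)) ≫
          e.hom.app (a'.obj (L.obj K)) ≫ G.map (adj'.counit.app (L.obj K)) := by
        rw [Functor.map_comp]
        simp only [Category.assoc]
        rw [reassoc_of% hnat]
    _ = F.map (a.map (adjg.unit.app K)) ≫ adj.counit.app (G.obj (L.obj K)) := by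
        rw [h2, ← h3, Functor.map_comp, Category.assoc, ← Category.assoc (F.map (inv _)),
          ← Functor.map_comp, IsIso.inv_hom_id, CategoryTheory.Functor.map_id, Category.id_comp]
    _ = _ := by
        rw [Adjunction.homEquiv_unit]
        have n1 : F.map (a.map (adjg.unit.app K)) ≫ adj.counit.app (G.obj (L.obj K)) =
            adj.counit.app K ≫ adjg.unit.app K := adj.counit.naturality (adjg.unit.app K)
        have n2 : adj.counit.app K ≫ adjg.unit.app K =
            adjg.unit.app (F.obj (a.obj K)) ≫ G.map (L.map (adj.counit.app K)) :=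
          adjg.unit.naturality (adj.counit.app K)
        rw [n1, n2]

lemma xi_naturality {M N : 𝒴'} (φ : M ⟶ N) :
    G'.map (a'.map φ) ≫ xi adj adj' e N = xi adj adj' e M ≫ a.map (G.map φ) := by
  simp only [xi, Adjunction.homEquiv_unit, Category.assoc]
  have n1 : G'.map (a'.map φ) ≫ adj.unit.app (G'.obj (a'.obj N)) =
      adj.unit.app (G'.obj (a'.obj M)) ≫ a.map (F.map (G'.map (a'.map φ))) :=
    adj.unit.naturality (G'.map (a'.map φ))
  have n2 : F.map (G'.map (a'.map φ)) ≫ e.hom.app (a'.obj N) =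
      e.hom.app (a'.obj M) ≫ G.map (F'.map (a'.map φ)) := e.hom.naturality (a'.map φ)
  have n3 : F'.map (a'.map φ) ≫ adj'.counit.app N = adj'.counit.app M ≫ φ :=
    adj'.counit.naturality φ
  rw [reassoc_of% n1, ← Functor.map_comp, ← Functor.map_comp, reassoc_of% n2,
    ← Functor.map_comp, n3]
  simp only [Category.assoc, Functor.map_comp]

lemma unit_xi (N : 𝒳') :
    G'.map (adj'.unit.app N) ≫ xi adj adj' e (F'.obj N) = adj.unit.app (G'.obj N) ≫ a.map (e.hom.app N) := by
  simp only [xi, Adjunction.homEquiv_unit]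
  have n1 := adj.unit.naturality (G'.map (adj'.unit.app N))
  simp only [Functor.id_map, Functor.comp_map] at n1
  rw [reassoc_of% n1]
  congr 1
  simp only [← Functor.map_comp]
  congr 1
  have n2 := e.hom.naturality (adj'.unit.app N)
  simp only [Functor.comp_map] at n2
  rw [reassoc_of% n2, ← Functor.map_comp, adj'.left_triangle_components]
  erw [CategoryTheory.Functor.map_id, Category.comp_id]

/-- **compatibility of the unit with base change** -/
theorem unit_compat (hξ : ∀ N : 𝒴', IsIso (xi adj adj' e N)) (M : 𝒳) :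
    adj'.unit.app (L'.obj M) = L'.map (adj.unit.app M) ≫
      bcMap adj adj' adjg adjg' e (F.obj M) (hξ _) ≫ a'.map (bcPush adjg adjg' e M) := by
  haveI := hξ
  apply (adjg'.homEquiv _ _).injective
  simp only [Adjunction.homEquiv_unit, Functor.map_comp]
  have hb := homEquiv_bcMap adj adj' adjg adjg' e (F.obj M) (hξ _)
  rw [Adjunction.homEquiv_unit] at hb
  have n0 : adjg'.unit.app M ≫ G'.map (L'.map (adj.unit.app M)) =
      adj.unit.app M ≫ adjg'.unit.app (a.obj (F.obj M)) :=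
    (adjg'.unit.naturality (adj.unit.app M)).symm
  have h1 : inv (xi adj adj' e (L.obj (F.obj M))) ≫ G'.map (a'.map (bcPush adjg adjg' e M)) =
      a.map (G.map (bcPush adjg adjg' e M)) ≫ inv (xi adj adj' e (F'.obj (L'.obj M))) := by
    rw [IsIso.inv_comp_eq, ← Category.assoc, IsIso.eq_comp_inv]
    exact xi_naturality adj adj' e (bcPush adjg adjg' e M)
  have h2 : adjg.homEquiv _ _ (bcPush adjg adjg' e M) =
      F.map (adjg'.unit.app M) ≫ e.hom.app (L'.obj M) := by
    simp [bcPush]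
  rw [Adjunction.homEquiv_unit] at h2
  have h3 := unit_xi adj adj' e (L'.obj M)
  have h4 : adj.unit.app (G'.obj (L'.obj M)) ≫ a.map (e.hom.app (L'.obj M)) ≫
      inv (xi adj adj' e (F'.obj (L'.obj M))) = G'.map (adj'.unit.app (L'.obj M)) := by
    rw [← Category.assoc, ← h3, Category.assoc, IsIso.hom_inv_id, Category.comp_id]
  have n1 : adjg'.unit.app M ≫ adj.unit.app (G'.obj (L'.obj M)) =
      adj.unit.app M ≫ a.map (F.map (adjg'.unit.app M)) :=
    adj.unit.naturality (adjg'.unit.app M)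
  calc adjg'.unit.app M ≫ G'.map (adj'.unit.app (L'.obj M))
      = adjg'.unit.app M ≫ adj.unit.app (G'.obj (L'.obj M)) ≫ a.map (e.hom.app (L'.obj M)) ≫
          inv (xi adj adj' e (F'.obj (L'.obj M))) := by rw [h4]
    _ = adj.unit.app M ≫ a.map (F.map (adjg'.unit.app M) ≫ e.hom.app (L'.obj M)) ≫
          inv (xi adj adj' e (F'.obj (L'.obj M))) := by
        rw [← Category.assoc, n1, Functor.map_comp]
        simp only [Category.assoc]
    _ = adj.unit.app M ≫ (a.map (adjg.unit.app (F.obj M)) ≫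
          inv (xi adj adj' e (L.obj (F.obj M)))) ≫ G'.map (a'.map (bcPush adjg adjg' e M)) := by
        rw [← h2, Functor.map_comp]
        simp only [Category.assoc]
        rw [h1]
    _ = _ := by
        rw [← hb]
        simp only [Category.assoc]
        rw [reassoc_of% n0]

end Groth.Agent.Lib.Helper5.AbsBC
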