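import Mathlib
import Groth.Agent.Lib.Helper5.FM2.AbsBC

/-!
# `ξ` is an isomorphism when the base change maps are (helper5)
-/
set_option autoImplicit false
universe u
open CategoryTheory

namespace Groth.Agent.Lib.Helper5.AbsBC

variable {𝒳 𝒴 𝒳' 𝒴' : Type*} [Category 𝒳] [Category 𝒴] [Category 𝒳'] [Category 𝒴']
  {F : 𝒳 ⥤ 𝒴} {F' : 𝒳' ⥤ 𝒴'} {G : 𝒴' ⥤ 𝒴} {G' : 𝒳' ⥤ 𝒳} {L : 𝒴 ⥤ 𝒴'} {L' : 𝒳 ⥤ 𝒳'}
  {a : 𝒴 ⥤ 𝒳} {a' : 𝒴' ⥤ 𝒳'}
  (adj : F ⊣ a) (adj' : F' ⊣ a') (adjg : L ⊣ G) (adjg' : L' ⊣ G') (e : G' ⋙ F ≅ F' ⋙ G)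

/-- under the adjunctions, composition with `ξ` is composition with the base change map -/
lemma homEquiv_comp_xi (M : 𝒴') (T : 𝒳) (φ : T ⟶ G'.obj (a'.obj M)) :
    (adjg.homEquiv _ _).symm ((adj.homEquiv _ _).symm (φ ≫ xi adj adj' e M)) =
      bcPush adjg adjg' e T ≫
        (adj'.homEquiv _ _).symm ((adjg'.homEquiv _ _).symm φ) := by
  have h1 : (adj.homEquiv _ _).symm (φ ≫ xi adj adj' e M) =
      F.map φ ≫ e.hom.app (a'.obj M) ≫ G.map (adj'.counit.app M) := by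
    rw [Adjunction.homEquiv_naturality_left_symm]
    simp [xi]
  rw [h1]
  simp only [bcPush, Adjunction.homEquiv_counit, Functor.map_comp, Category.assoc]
  have n1 := adjg.counit.naturality
    (F'.map (L'.map φ) ≫ F'.map (adjg'.counit.app (a'.obj M)) ≫ adj'.counit.app M)
  simp only [Functor.comp_map, Functor.id_map, Functor.map_comp, Category.assoc] at n1
  rw [← n1]
  simp only [← Functor.map_comp_assoc, ← Functor.map_comp]
  congr 2
  simp only [Functor.map_comp, Category.assoc]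
  have n2 : ∀ {Z : 𝒴} (h : G.obj (F'.obj (L'.obj (G'.obj (a'.obj M)))) ⟶ Z),
      e.hom.app (L'.obj T) ≫ G.map (F'.map (L'.map φ)) ≫ h =
        F.map (G'.map (L'.map φ)) ≫ e.hom.app (L'.obj (G'.obj (a'.obj M))) ≫ h := fun h => by
    have := e.hom.naturality (L'.map φ)
    simp only [Functor.comp_map] at this
    rw [← Category.assoc, ← this, Category.assoc]
  have n3 : ∀ {Z : 𝒴} (h : G.obj (F'.obj (a'.obj M)) ⟶ Z),
      e.hom.app (L'.obj (G'.obj (a'.obj M))) ≫ G.map (F'.map (adjg'.counit.app (a'.obj M))) ≫ h =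
        F.map (G'.map (adjg'.counit.app (a'.obj M))) ≫ e.hom.app (a'.obj M) ≫ h := fun h => by
    have : F.map (G'.map (adjg'.counit.app (a'.obj M))) ≫ e.hom.app (a'.obj M) =
        e.hom.app (L'.obj (G'.obj (a'.obj M))) ≫ G.map (F'.map (adjg'.counit.app (a'.obj M))) :=
      e.hom.naturality (adjg'.counit.app (a'.obj M))
    rw [← Category.assoc, ← this, Category.assoc]
  rw [n2, n3]
  simp only [← Functor.map_comp_assoc]
  congr 2
  have n4 := adjg'.unit.naturality φ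
  simp only [Functor.comp_map, Functor.id_map] at n4
  rw [← Category.assoc, ← n4, Category.assoc, Adjunction.right_triangle_components]
  exact (Category.comp_id _).symm

/-- **`ξ` is an isomorphism if the base change maps are** -/
theorem isIso_xi_of_isIso_bcPush (h : ∀ T : 𝒳, IsIso (bcPush adjg adjg' e T)) (M : 𝒴') :
    IsIso (xi adj adj' e M) := by
  apply isIso_of_yoneda_map_bijective
  intro T
  let Φ₁ : (T ⟶ G'.obj (a'.obj M)) ≃ (F'.obj (L'.obj T) ⟶ M) :=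
    (adjg'.homEquiv _ _).symm.trans (adj'.homEquiv _ _).symm
  let Φ₂ : (T ⟶ a.obj (G.obj M)) ≃ (L.obj (F.obj T) ⟶ M) :=
    (adj.homEquiv _ _).symm.trans (adjg.homEquiv _ _).symm
  haveI := h T
  let Ψ : (F'.obj (L'.obj T) ⟶ M) ≃ (L.obj (F.obj T) ⟶ M) :=
    (asIso (bcPush adjg adjg' e T)).homFromEquiv.symm
  have hcomp : (fun φ : T ⟶ G'.obj (a'.obj M) => φ ≫ xi adj adj' e M) =
      fun φ => Φ₂.symm (Ψ (Φ₁ φ)) := by
    funext φ
    rw [Equiv.eq_symm_apply]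
    exact homEquiv_comp_xi adj adj' adjg adjg' e M T φ
  rw [hcomp]
  exact Φ₂.symm.bijective.comp (Ψ.bijective.comp Φ₁.bijective)

end Groth.Agent.Lib.Helper5.AbsBC
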